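import Cfsg.Agent.H129.StabGen
import Cfsg.Agent.H129.TorusUntw
import Cfsg.Agent.BpExc.EmbInst
import Cfsg.Agent.ChevalleyStructure.E6H1
import Cfsg.Agent.S1102
import Cfsg.Agent.FastGrp
import Cfsg.Agent.Prune
set_option linter.all false
prune_inst 0x7f00000000000000000000000000000000000000000000000000000000000000000000000000000000000000000000000000000000000000000000000000000000000000000000000000000000000000003fffffffffffffffffffffffffffbeffbdffffffff
open scoped Cfsg.Agent.FastGrp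

/-!
# The twisted Frobenius automorphism of `E₆` over an algebraically closed field (helper493)

* `gam k : MulAut (chevE6.group k)` : the graph automorphism; `tau k p e = gam k * phi chevE6 k p e`;
* `isFrob_tau`, `fr_tau` : a frame automorphism with lattice automorphism `dua`;
* `tau_cube` : if `tau y = y` then `y ^ gcd 3 (q + 1)` is in `²E₆(q)`.
-/

set_option autoImplicit false
set_option linter.unusedSectionVars false

namespace Cfsg.Agent.H493.TwE6Alg

open CoxeterSystem Cfsg Cfsg.Lie Cfsg.Lie.ChevalleyDatum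
open Cfsg.Agent.ChevalleyStructure Cfsg.Agent.ChevalleyStructure.Elts Cfsg.Agent.ChevalleyStructure.CoxeterGeom
  Cfsg.Agent.ChevalleyStructure.CoxeterGeomTypes Cfsg.Agent.ChevalleyStructure.NPerm
open Cfsg.Agent.Tits.Roots Cfsg.Agent.Tits.Core Cfsg.Agent.Nodes Cfsg.Agent.Nodes.Reps Cfsg.Agent.Nodes.BNOf
  Cfsg.Agent.Nodes.RGDChev Cfsg.Agent.Nodes.Bruhat Cfsg.Agent.Nodes.SubComb Cfsg.Agent.Nodes.Coroot
open Cfsg.Agent.KFacts.RgdField Cfsg.Agent.KFacts.RgdChevCoord Cfsg.Agent.BpExc.TorCent Cfsg.Agent.BpExc.TorChev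
open Cfsg.Agent.GpExc.Field Cfsg.Agent.BpExc.Tow Cfsg.Agent.BpExc.TowChev Cfsg.Agent.BpExc.Fr
  Cfsg.Agent.BpExc.LangFr Cfsg.Agent.LangThm Cfsg.Agent.BpExc Cfsg.Agent.H129.TorusChar Cfsg.Agent.H129.TorusCent
  Cfsg.Agent.H129.TorusTw Cfsg.Agent.H129.TorusMain Cfsg.Agent.ChevStructure.FieldMap Cfsg.Agent.BpExc.EmbInst
  Cfsg.Agent.H129.TorusUntw
open Cfsg.Agent.ChevalleyStructure.TwE6Basic (sg rho)
open Cfsg.Agent.ChevalleyStructure.GraphSymm (symmE6)

universe u

section Gam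

variable {k : Type u} [Field k]

theorem sg_mem {φ : k →+* k} {g : GL chevE6.Idx k} (hg : g ∈ chevE6.group k) : sg φ g ∈ chevE6.group k := by
  have h1 : chevE6.group k ≤ (chevE6.group k).comap (sg φ) := by
    rw [group_le_iff RGDTwE6.hp.inList]
    intro r hr t
    obtain ⟨s, -, -, -, ε, -, h2, -⟩ := std φ r hr
    rw [Subgroup.mem_comap, h2]
    exact xG_mem_group RGDTwE6.hp.inList _ _
  exact h1 hg

theorem sg_one_sq {g : GL chevE6.Idx k} (hg : g ∈ chevE6.group k) :
    sg (RingHom.id k) (sg (RingHom.id k) g) = g := by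
  have h1 : chevE6.group k ≤ MonoidHom.eqLocus
      ((sg (RingHom.id k)).comp (sg (RingHom.id k))) (MonoidHom.id _) := by
    rw [group_le_iff RGDTwE6.hp.inList]
    intro r hr t
    exact sg_sq (RingHom.id k) r hr t
  exact (h1 hg :)

/-- the graph automorphism -/
def gam (k : Type u) [Field k] : MulAut ↥(chevE6.group k) where
  toFun g := ⟨sg (RingHom.id k) g, sg_mem g.2⟩
  invFun g := ⟨sg (RingHom.id k) g, sg_mem g.2⟩
  left_inv g := Subtype.ext (sg_one_sq g.2)
  right_inv g := Subtype.ext (sg_one_sq g.2)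
  map_mul' _ _ := Subtype.ext (map_mul (sg (RingHom.id k)) _ _)

theorem coe_gam (g : ↥(chevE6.group k)) : ((gam k g : ↥(chevE6.group k)) : GL chevE6.Idx k) = sg (RingHom.id k) g :=
  rfl

theorem coe_gam_inv (g : ↥(chevE6.group k)) :
    (((gam k)⁻¹ g : ↥(chevE6.group k)) : GL chevE6.Idx k) = sg (RingHom.id k) g := rfl

/-- the lattice automorphism -/
def dua : (Fin 6 → ℤ) ≃+ (Fin 6 → ℤ) where
  toFun x := ![x 5, x 1, x 4, x 3, x 2, x 0]
  invFun x := ![x 5, x 1, x 4, x 3, x 2, x 0]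
  left_inv x := by funext i; fin_cases i <;> rfl
  right_inv x := by funext i; fin_cases i <;> rfl
  map_add' x y := by funext i; fin_cases i <;> rfl

/-- the permutation of the simple roots -/
def pi : Fin 6 → Fin 6 := ![5, 1, 4, 3, 2, 0]

theorem dua_apply (x : Fin 6 → ℤ) : dua x = ![x 5, x 1, x 4, x 3, x 2, x 0] := rfl

theorem vec_rho : ∀ (r : Fin 72) (i : Fin 6), vec chevE6 6 (rho r).val i = dua (vec chevE6 6 r.val) i := by
  decide +kernel

theorem dua_vec (r : Fin 72) : dua (vec chevE6 6 r.val) = vec chevE6 6 (rho r).val :=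
  (funext fun i => vec_rho r i).symm

theorem dua_sr' : ∀ (j i : Fin 6), dua (sr j) i = (sr (pi j) : Fin 6 → ℤ) i := by
  decide +kernel

theorem dua_sr (j : Fin 6) : dua (sr j) = sr (pi j) := funext (dua_sr' j)

variable {W : Type*} [Group W] (cs : CoxeterSystem CoxeterMatrix.E₆ W)

theorem isRoot_dua (x : Fin 6 → ℤ) (hx : IsRoot cs RGDTwE6.hp.isCartan x) :
    IsRoot cs RGDTwE6.hp.isCartan (dua x) := by
  obtain ⟨r, hr, rfl⟩ := (isRoot_iff RGDTwE6.hp cs x).1 hx
  have hr' : r < 72 := hr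
  rw [dua_vec ⟨r, hr'⟩]
  exact (isRoot_iff RGDTwE6.hp cs _).2 ⟨_, (rho ⟨r, hr'⟩).2, rfl⟩

theorem sg_diag {φ : k →+* k} {g : GL chevE6.Idx k} (hg : g ∈ chevE6.diagonalSubgroup k) :
    sg φ g ∈ chevE6.diagonalSubgroup k := by
  have hD := RGDTwE6.hp.inList
  have h1 : chevE6.diagonalSubgroup k ≤ (chevE6.diagonalSubgroup k).comap (sg φ) := by
    rw [diagonal_le_iff hD]
    intro r hr t ht
    obtain ⟨s, hs, -, -, ε, hε, h2, h3⟩ := std φ r hr
    have key : ∀ c, sg φ (nG hD r c) = nG hD s (ε * φ c) := fun c => by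
      rw [nG_def, nG_def, map_mul, map_mul, h2, h3, map_neg, map_inv₀, mul_inv, mul_neg]
    have e1 : hG hD s (ε * φ t) * (hG hD s (-(ε * φ (-1))))⁻¹ ∈ chevE6.diagonalSubgroup k :=
      mul_mem (hG_mem_diagonal hD hs (mul_ne_zero hε ((map_ne_zero φ).2 ht)))
        (inv_mem (hG_mem_diagonal hD hs (by rw [map_neg, map_one]; simpa using hε)))
    have e2 : sg φ (hG hD r t) = hG hD s (ε * φ t) * (hG hD s (-(ε * φ (-1))))⁻¹ := by
      rw [hG_def, hG_def, hG_def, map_mul, key, key]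
      have e3 : nG hD s (-(ε * φ (-1))) = (nG hD s (ε * φ (-1)))⁻¹ := by
        rw [nG_def, nG_def, mul_inv_rev, mul_inv_rev, xG_inv, xG_inv, ← mul_assoc, inv_neg, neg_neg]
      rw [e3]
      group
    rw [Subgroup.mem_comap, e2]
    exact e1
  exact h1 hg

theorem sg_XV {x : Fin 6 → ℤ} (hx : IsRoot cs RGDTwE6.hp.isCartan x) {g : GL chevE6.Idx k}
    (hg : g ∈ XV chevE6 6 k x) : sg (RingHom.id k) g ∈ XV chevE6 6 k (dua x) := by
  obtain ⟨r, hr, rfl⟩ := (isRoot_iff RGDTwE6.hp cs x).1 hx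
  have hr' : r < 72 := hr
  rw [XV_vec RGDTwE6.hp k hr] at hg
  rw [dua_vec ⟨r, hr'⟩, XV_vec RGDTwE6.hp k (rho ⟨r, hr'⟩).2]
  obtain ⟨t, rfl⟩ := (mem_rootSubgroup_iff RGDTwE6.hp.inList _ _).1 hg
  have h1 : sg (RingHom.id k) (xG RGDTwE6.hp.inList r t) = xG RGDTwE6.hp.inList (rho ⟨r, hr'⟩).val
    (((ep ⟨r, hr'⟩ : ℤ) : k) * (RingHom.id k) t) := sg_ep (RingHom.id k) (⟨r, hr'⟩ : Fin 72) t
  rw [h1]
  exact xG_mem_rootSubgroup _ _ _

theorem dua_two (x : Fin 6 → ℤ) : dua (dua x) = x := by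
  funext i; fin_cases i <;> rfl

/-- The graph automorphism is a frame automorphism. -/
theorem fr_gam : Fr cs RGDTwE6.hp.isCartan (TT chevE6 k) (XX chevE6 6 k) (gam k) dua where
  tor t := by
    constructor
    · intro h
      have h1 : (gam k)⁻¹ (gam k t) ∈ TT chevE6 k := by
        rw [Subgroup.mem_subgroupOf, coe_gam_inv]
        exact sg_diag h
      rwa [MulAut.inv_apply_self] at h1
    · intro h
      rw [Subgroup.mem_subgroupOf, coe_gam]
      exact sg_diag h
  root a := by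
    constructor
    · intro h
      have h1 := isRoot_dua cs _ h
      rwa [dua_two] at h1
    · exact isRoot_dua cs a
  map a ha y := by
    constructor
    · intro h
      have h1 : (gam k)⁻¹ (gam k y) ∈ XX chevE6 6 k a := by
        rw [Subgroup.mem_subgroupOf, coe_gam_inv]
        have h2 := sg_XV cs (isRoot_dua cs _ ha) h
        rwa [dua_two] at h2
      rwa [MulAut.inv_apply_self] at h1
    · intro h
      rw [Subgroup.mem_subgroupOf, coe_gam]
      exact sg_XV cs ha h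

end Gam

/-! ### the twisted Frobenius -/

section Tau

variable {k : Type u} [Field k] [IsAlgClosed k] {p e : ℕ} [Fact p.Prime] [CharP k p]

/-- the twisted Frobenius automorphism -/
noncomputable def tau (k : Type u) [Field k] [IsAlgClosed k] (p e : ℕ) [Fact p.Prime] [CharP k p] :
    MulAut ↥(chevE6.group k) :=
  gam k * phi chevE6 k p e

theorem coe_tau (g : ↥(chevE6.group k)) :
    ((tau k p e g : ↥(chevE6.group k)) : GL chevE6.Idx k) = sg (iterateFrobenius k p e) g := by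
  have h1 : ((tau k p e g : ↥(chevE6.group k)) : GL chevE6.Idx k) =
      sg (RingHom.id k) (glMap chevE6 (iterateFrobenius k p e) g) := by
    rw [← coe_phi]
    rfl
  rw [h1]
  rfl

theorem isFrob_tau : IsFrob p e (tau k p e) :=
  ⟨symmE6.P k, fun g => by
    rw [coe_tau]
    apply Units.ext
    have h1 : frob p e (g : GL chevE6.Idx k) = glMap chevE6 (iterateFrobenius k p e) g := by
      apply co_injective
      funext ij
      rw [co_frob]
      rfl
    rw [h1]
    rfl⟩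

theorem fr_tau {W : Type*} [Group W] (cs : CoxeterSystem CoxeterMatrix.E₆ W) :
    Fr cs RGDTwE6.hp.isCartan (TT chevE6 k) (XX chevE6 6 k) (tau k p e) dua :=
  Fr.mul (fr_gam cs) (fr_phi RGDTwE6.hp cs)

section Fix

variable {F : Type u} [Field F] [Fintype F] (f : F →+* k)

theorem tau_eq_iff (g : ↥(chevE6.group k)) :
    tau k p e g = g ↔ sg (iterateFrobenius k p e) (g : GL chevE6.Idx k) = g := by
  rw [← coe_tau, Subtype.ext_iff]

theorem tw_le (F : Type u) [Field F] (q : ℕ) : twistedE6 F q ≤ chevE6.group F := by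
  rw [TwE6Basic.twisted_le_iff]
  exact ⟨fun t _ r _ => xG_mem_group RGDTwE6.hp.inList r t,
    fun t rs _ => mul_mem (xG_mem_group RGDTwE6.hp.inList _ _) (xG_mem_group RGDTwE6.hp.inList _ _)⟩

/-- the embedding of the finite group -/
noncomputable def embT (q : ℕ) : ↥(twistedE6 F q) →* ↥(chevE6.group k) :=
  (emb RGDTwE6.hp.inList f).comp (Subgroup.inclusion (tw_le F q))

theorem coe_embT (q : ℕ) (x : ↥(twistedE6 F q)) :
    ((embT f q x : ↥(chevE6.group k)) : GL chevE6.Idx k) = glMap chevE6 f x := coe_emb RGDTwE6.hp.inList f _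

theorem embT_injective (q : ℕ) : Function.Injective (embT (k := k) f q) :=
  (emb_injective RGDTwE6.hp.inList f).comp (Subgroup.inclusion_injective _)

theorem frob_apply {q : ℕ} (hqe : q = p ^ e) (t : k) : iterateFrobenius k p e t = t ^ q := by
  rw [iterateFrobenius_def, hqe]

theorem tau_embT {q : ℕ} (hqe : q = p ^ e) (hq : IsPrimePow q) (hF : Fintype.card F = q ^ 2)
    (x : ↥(twistedE6 F q)) : tau k p e (embT f q x) = embT f q x := by
  rw [tau_eq_iff, coe_embT]
  exact (twE6_fix hq hF (frob_apply hqe) x.2).2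

/-- the fixed elements of the torus -/
noncomputable def TF (k : Type u) [Field k] [IsAlgClosed k] (p e : ℕ) [Fact p.Prime] [CharP k p] :
    Subgroup ↥(chevE6.group k) where
  carrier := {t | t ∈ TT chevE6 k ∧ tau k p e t = t}
  mul_mem' := by
    rintro a b ⟨h1, h2⟩ ⟨h3, h4⟩
    exact ⟨mul_mem h1 h3, by rw [map_mul, h2, h4]⟩
  one_mem' := ⟨one_mem _, map_one _⟩
  inv_mem' := by
    rintro a ⟨h1, h2⟩
    exact ⟨inv_mem h1, by rw [map_inv, h2]⟩

/-- The fixed elements of the torus. -/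
theorem torus_mem {q : ℕ} (hqe : q = p ^ e) (hq : IsPrimePow q) (hF : Fintype.card F = q ^ 2)
    {t : ↥(chevE6.group k)} (ht : t ∈ TT chevE6 k) (hσ : tau k p e t = t) :
    t ^ Nat.gcd 3 (q + 1) ∈ (embT (k := k) f q).range := by
  classical
  let cs := CoxeterMatrix.E₆.toCoxeterSystem
  -- the values
  have hval : ∀ {s : ↥(chevE6.group k)}, s ∈ TT chevE6 k → tau k p e s = s → ∀ x,
      cX RGDTwE6.hp s (dua x) = cX RGDTwE6.hp s x ^ q := by
    intro s hs hs' x
    have h := cX_sigma RGDTwE6.hp cs isFrob_tau (fr_tau (k := k) (p := p) (e := e) cs) hs x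
    rw [hs'] at h
    rw [h, hqe]
  have hv : ∀ s : TF k p e, ∀ i : Fin 6, cX RGDTwE6.hp s.1 (sr (pi i)) = cX RGDTwE6.hp s.1 (sr i) ^ q := by
    intro s i
    rw [← dua_sr]
    exact hval s.2.1 s.2.2 _
  have hpi : ∀ i : Fin 6, pi (pi i) = i := by decide
  have hr : ∀ s : TF k p e, ∀ i : Fin 6, ∃ b : F, f b = cX RGDTwE6.hp s.1 (sr i) := fun s i =>
    Emb.mem_range_of_pow f (by
      have h1 := hv s (pi i)
      rw [hpi, hv s i, ← pow_mul, ← sq] at h1
      rw [hF, ← h1])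
  have hne : ∀ s : TF k p e, ∀ i : Fin 6, cX RGDTwE6.hp s.1 (sr i) ≠ 0 := fun s i =>
    (isMC_cX RGDTwE6.hp s.2.1).ne_zero _
  choose κ hκ using hr
  have hκ0 : ∀ s i, κ s i ≠ 0 := by
    intro s i h0
    have h1 := hκ s i
    rw [h0, map_zero] at h1
    exact hne s i h1.symm
  -- the homomorphism into `(Fˣ)² × (F_qˣ)²`
  obtain ⟨φ0, hφ0⟩ := D4Fixed.exists_frob hq hF
  let Fx : Subgroup Fˣ := (Units.map (φ0 : F →* F)).eqLocus (MonoidHom.id _)
  have hfix : ∀ s : TF k p e, ∀ i, pi i = i → Units.mk0 (κ s i) (hκ0 s i) ∈ Fx := by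
    intro s i hi
    apply Units.ext
    show φ0 (κ s i) = κ s i
    apply f.injective
    rw [hφ0, map_pow, hκ, ← hv s i, hi]
  have hmul : ∀ (s s' : TF k p e) (i : Fin 6), κ (s * s') i = κ s i * κ s' i := by
    intro s s' i
    apply f.injective
    rw [hκ, map_mul, hκ, hκ]
    exact cX_mul RGDTwE6.hp s.2.1 s'.2.1 _
  let Ψ : TF k p e →* (Fˣ × Fˣ) × (Fx × Fx) :=
    { toFun := fun s => ((Units.mk0 (κ s 0) (hκ0 s 0), Units.mk0 (κ s 2) (hκ0 s 2)),
        (⟨Units.mk0 (κ s 1) (hκ0 s 1), hfix s 1 (by decide)⟩, ⟨Units.mk0 (κ s 3) (hκ0 s 3), hfix s 3 (by decide)⟩))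
      map_one' := by
        have h1 : ∀ i, κ 1 i = 1 := fun i => by
          have h2 := hmul 1 1 i
          rw [mul_one] at h2
          exact (mul_eq_left₀ (hκ0 1 i)).1 h2.symm
        refine Prod.ext (Prod.ext (Units.ext (h1 0)) (Units.ext (h1 2)))
          (Prod.ext (Subtype.ext (Units.ext (h1 1))) (Subtype.ext (Units.ext (h1 3))))
      map_mul' := fun s s' => by
        refine Prod.ext (Prod.ext (Units.ext (hmul s s' 0)) (Units.ext (hmul s s' 2)))
          (Prod.ext (Subtype.ext (Units.ext (hmul s s' 1))) (Subtype.ext (Units.ext (hmul s s' 3)))) }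
  have hΨ : Function.Injective Ψ := by
    intro s s' h
    apply Subtype.ext
    have h0 : κ s 0 = κ s' 0 := congrArg (fun z => ((z.1.1 : Fˣ) : F)) h
    have h2 : κ s 2 = κ s' 2 := congrArg (fun z => ((z.1.2 : Fˣ) : F)) h
    have h1 : κ s 1 = κ s' 1 := congrArg (fun z => ((z.2.1.1 : Fˣ) : F)) h
    have h3 : κ s 3 = κ s' 3 := congrArg (fun z => ((z.2.2.1 : Fˣ) : F)) h
    have e : ∀ i, κ s i = κ s' i → cX RGDTwE6.hp s.1 (sr i) = cX RGDTwE6.hp s'.1 (sr i) := fun i hi => by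
      rw [← hκ, ← hκ, hi]
    refine cX_inj RGDTwE6.hp s.2.1 s'.2.1 fun i => ?_
    fin_cases i
    · exact e 0 h0
    · exact e 1 h1
    · exact e 2 h2
    · exact e 3 h3
    · show cX RGDTwE6.hp s.1 (sr (pi 2)) = cX RGDTwE6.hp s'.1 (sr (pi 2))
      rw [hv, hv, e 2 h2]
    · show cX RGDTwE6.hp s.1 (sr (pi 0)) = cX RGDTwE6.hp s'.1 (sr (pi 0))
      rw [hv, hv, e 0 h0]
  -- the subgroup
  have hι : ∀ x : ↥(chevE6.diagonalSubgroup F ⊓ twistedE6 F q),
      ((embT (k := k) f q).comp (Subgroup.inclusion inf_le_right)) x ∈ TF k p e := fun x =>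
    ⟨emb_T RGDTwE6.hp f ⟨Subgroup.inclusion (tw_le F q) ⟨x.1, x.2.2⟩, x.2.1, rfl⟩, tau_embT f hqe hq hF _⟩
  let ι : ↥(chevE6.diagonalSubgroup F ⊓ twistedE6 F q) →* TF k p e :=
    ((embT (k := k) f q).comp (Subgroup.inclusion inf_le_right)).codRestrict (TF k p e) hι
  have hιinj : Function.Injective ι := by
    intro x y h
    have h1 : embT (k := k) f q (Subgroup.inclusion inf_le_right x) =
        embT (k := k) f q (Subgroup.inclusion inf_le_right y) := congrArg Subtype.val h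
    exact Subgroup.inclusion_injective _ (embT_injective f q h1)
  have hFx : Nat.card Fx = q - 1 := by
    have h1 : Nat.card {b : Fˣ // φ0 b = b} = q - 1 := D4H1.card_fixed hq.one_lt hF hφ0
    rw [← h1]
    refine Nat.card_congr (Equiv.subtypeEquivRight fun b => ?_)
    constructor
    · intro h
      exact congrArg Units.val h
    · intro h
      exact Units.ext h
  have hcardT : Nat.card (TF k p e) ∣ (q ^ 2 - 1) * (q ^ 2 - 1) * ((q - 1) * (q - 1)) := by
    have h1 := Subgroup.card_dvd_of_injective Ψ hΨ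
    rw [Nat.card_prod, Nat.card_prod, Nat.card_prod, D4H1.natCard_units hF, hFx] at h1
    exact h1
  have hN : (q ^ 2 - 1) * (q ^ 2 - 1) * ((q - 1) * (q - 1)) = (q - 1) ^ 4 * (q + 1) ^ 2 := by
    obtain ⟨m, rfl⟩ : ∃ m, q = m + 1 := ⟨q - 1, (Nat.sub_add_cancel hq.one_lt.le).symm⟩
    have h1 : (m + 1) ^ 2 - 1 = m * (m + 2) := by
      apply Nat.sub_eq_of_eq_add
      ring
    rw [h1, Nat.add_sub_cancel]
    ring
  have hfinT : Finite (TF k p e) := by
    have : Finite ((Fˣ × Fˣ) × (Fx × Fx)) := inferInstance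
    exact Finite.of_injective Ψ hΨ
  have hH := Cfsg.Agent.S1102.result hq hF
  have hpos : 0 < (q - 1) ^ 4 * (q + 1) ^ 2 := by
    have := hq.one_lt
    have : 0 < q - 1 := by omega
    (clear * - this; positivity)
  have hcS : Nat.card ι.range = Nat.card ↥(chevE6.diagonalSubgroup F ⊓ twistedE6 F q) :=
    (Nat.card_congr (MonoidHom.ofInjective hιinj).toEquiv).symm
  have hidx : ι.range.index ∣ Nat.gcd 3 (q + 1) := by
    have h1 := ι.range.card_mul_index
    rw [hN, ← hH, ← h1, hcS, mul_comm] at hcardT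
    have h3 : 0 < Nat.card ↥(chevE6.diagonalSubgroup F ⊓ twistedE6 F q) := by
      rw [← hH] at hpos
      exact pos_of_mul_pos_right hpos (Nat.zero_le _)
    exact Nat.dvd_of_mul_dvd_mul_right h3 hcardT
  have hcomm : ι.range.Normal := by
    refine ⟨fun a ha b => ?_⟩
    have : b * a * b⁻¹ = a := by
      apply Subtype.ext
      show (b : ↥(chevE6.group k)) * a * (b : ↥(chevE6.group k))⁻¹ = a
      have h5 := TT_comm RGDTwE6.hp b.1 b.2.1 a.1 a.2.1
      rw [h5]
      group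
    rwa [this]
  obtain ⟨m, hm⟩ := hidx
  have h1 : (⟨t, ht, hσ⟩ : TF k p e) ^ Nat.gcd 3 (q + 1) ∈ ι.range := by
    rw [hm, pow_mul]
    exact pow_mem (ι.range.pow_index_mem _) m
  obtain ⟨x, hx⟩ := h1
  exact ⟨_, congrArg Subtype.val hx⟩

/-- **The fixed points of the twisted Frobenius, up to `gcd(3, q + 1)`-th powers.** -/
theorem tau_pow {q : ℕ} (hqe : q = p ^ e) (hq : IsPrimePow q) (hF : Fintype.card F = q ^ 2)
    {g : ↥(chevE6.group k)} (hg : tau k p e g = g) : g ^ Nat.gcd 3 (q + 1) ∈ (embT (k := k) f q).range := by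
  obtain ⟨x, hx, t, ht, h1⟩ := twE6_split (f := f) hq hF (frob_apply hqe) g.2 ((tau_eq_iff g).1 hg)
  let t' : ↥(chevE6.group k) := ⟨t, diagonal_le_group RGDTwE6.hp.inList k ht⟩
  have e1 : g = embT f q ⟨x, hx⟩ * t' := by
    apply Subtype.ext
    rw [Subgroup.coe_mul, coe_embT]
    exact h1
  have hσt : tau k p e t' = t' := by
    have h2 := hg
    rw [e1, map_mul, tau_embT f hqe hq hF] at h2
    exact mul_left_cancel h2
  -- `t'` normalises the image
  have hnorm : ∀ y ∈ (embT (k := k) f q).range, t' * y * t'⁻¹ ∈ (embT (k := k) f q).range := by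
    rintro _ ⟨y, rfl⟩
    have h3 := twE6_normalizer (f := f) hq hF (frob_apply hqe) t'.2 ((tau_eq_iff t').1 hσt)
    rw [Subgroup.mem_normalizer_iff] at h3
    obtain ⟨z, hz, hz'⟩ := (h3 (glMap chevE6 f y)).1 ⟨y, y.2, rfl⟩
    refine ⟨⟨z, hz⟩, Subtype.ext ?_⟩
    rw [coe_embT]
    rw [hz', Subgroup.coe_mul, Subgroup.coe_mul, Subgroup.coe_inv, coe_embT]
  have key : ∀ n : ℕ, ∃ y ∈ (embT (k := k) f q).range, g ^ n = y * t' ^ n := by
    intro n
    induction n with
    | zero => exact ⟨1, one_mem _, by simp⟩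
    | succ n ih =>
      obtain ⟨y, hy, h4⟩ := ih
      have h5 : ∀ m : ℕ, ∀ y ∈ (embT (k := k) f q).range, t' ^ m * y * (t' ^ m)⁻¹ ∈ (embT (k := k) f q).range := by
        intro m
        induction m with
        | zero => intro y hy; simpa only [_root_.pow_zero, _root_.one_mul, _root_.inv_one, _root_.mul_one, _root_.MonoidHom.mem_range, _root_.Subtype.exists] using hy
        | succ m ih =>
          intro y hy
          have h6 := hnorm _ (ih y hy)
          have e : t' ^ (m + 1) * y * (t' ^ (m + 1))⁻¹ = t' * (t' ^ m * y * (t' ^ m)⁻¹) * t'⁻¹ := by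
            rw [pow_succ']; group
          rwa [e]
      refine ⟨y * (t' ^ n * embT f q ⟨x, hx⟩ * (t' ^ n)⁻¹), mul_mem hy (h5 n _ ⟨_, rfl⟩), ?_⟩
      rw [pow_succ, h4, pow_succ]
      conv_lhs => rw [e1]
      group
  obtain ⟨y, hy, h6⟩ := key (Nat.gcd 3 (q + 1))
  rw [h6]
  exact mul_mem hy (torus_mem f hqe hq hF (t := t') ht hσt)

end Fix

end Tau

end Cfsg.Agent.H493.TwE6Alg
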