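import Cfsg.Agent.H77.E4Poly_m3
import Cfsg.Agent.H493.PGCount_m3
import Cfsg.Agent.H129.TriD4
import Cfsg.Agent.H129.WData
import Cfsg.Agent.ChevalleyStructure.WeylData
import Cfsg.Agent.S1067
import Cfsg.Agent.Prune
set_option linter.all false
prune_inst 0x7f00000000000000000000000000000000000000000000000000000000000000000000000000000000000000000000000000000000000000000000000000000000000000000000000000000000000000003fffffffffffffffffffffffffffbeffbdffffffff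
open scoped Cfsg.Agent.FastGrp

/-!
# The prime graph of `³D₄(q)`: at most two components

`{p}`, the primes of `Φ₁, Φ₂, Φ₃, Φ₆` are connected, and those of `Φ₁₂`.
-/

set_option autoImplicit false

namespace Cfsg.Agent.H493.PGD4T

open Cfsg Cfsg.Lie Cfsg.Lie.ChevalleyDatum Cfsg.Agent.H129 Cfsg.Agent.H129.WData
open Cfsg.Agent.ChevalleyStructure Cfsg.Agent.ChevalleyStructure.CoxeterGeom
  Cfsg.Agent.ChevalleyStructure.CoxeterGeomTypes
open Cfsg.Agent.Tits.Roots Cfsg.Agent.Nodes Cfsg.Agent.Nodes.Reps Cfsg.Agent.Nodes.RGDChev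
  Cfsg.Agent.H129.TorusUntw Cfsg.Agent.H129.TriD4 Cfsg.Agent.BpExc.TowChev Cfsg.Agent.BpExc.Tow
open Cfsg.Agent.H493.PGTorus Cfsg.Agent.H493.PGCyc Cfsg.Agent.H493.PG

universe u

/-- the Cartan matrix -/
def Am : Mat 4 := ![![2, -1, 0, 0], ![-1, 2, -1, -1], ![0, -1, 2, 0], ![0, -1, 0, 2]]

theorem hA : ∀ i j, Am i j = cartanOf chevD4 4 i j := by decide +kernel

/-- the permutation of the simple roots -/
def pi : Fin 4 → Fin 4 := ![2, 1, 3, 0]

theorem finW : Finite coxeterD4.Group := by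
  have hW : Nat.card coxeterD4.Group = 192 :=
    ChevalleyStructure.WeylData.certD4.card_group.trans ChevalleyStructure.WeylData.size_D4
  exact Nat.finite_of_card_ne_zero (by rw [hW]; norm_num)

/-- the closure -/
theorem setup {K : Type u} [Field K] [Fintype K] {q : ℕ} (hq : IsPrimePow q) (hK : Fintype.card K = q ^ 3) :
    ∃ (p e : ℕ) (_ : Fact p.Prime) (_ : CharP (AlgebraicClosure K) p), 0 < e ∧ q = p ^ e ∧
      LocFin (AlgebraicClosure K) := by
  obtain ⟨p, e', hpF, hpc, hpk, -, hpe, hk⟩ := exists_closure hK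
  obtain ⟨p', e, hp', he, hqe'⟩ := id hq
  have hpp : p' = p := by
    have h1 : p' ∣ p ^ e' := by
      rw [← hpe, ← hqe']
      exact dvd_pow (dvd_pow_self p' he.ne') (by norm_num)
    exact (Nat.prime_dvd_prime_iff_eq hp'.nat_prime hpF.out).1 (hp'.nat_prime.dvd_of_dvd_pow h1)
  subst hpp
  exact ⟨p', e, hpF, hpk, he, hqe'.symm, hk⟩

theorem lin {W : Type*} [Group W] (cs : CoxeterSystem coxeterD4 W) {L : List (Fin 4 × Mat 4)} (hL : ChainOK Am L)
    {Th : Mat 4} (hTh : ∀ j, hd L (pi j) = Th j) (j : Fin 4) :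
    rep cs RGDTwD4.hp.isCartan (cs.wordProd (L.map Prod.fst)) (tri (sr j)) = Th j := by
  have h1 : tri (sr j) = sr (pi j) := funext (tri_sr j)
  rw [h1, WData.chain_rep RGDTwD4.hp cs hA hL, hTh]

section

variable {K : Type u} [Field K] [Fintype K] {q : ℕ} (hq : IsPrimePow q) (hK : Fintype.card K = q ^ 3)
  {L : List (Fin 4 × Mat 4)} (hL : ChainOK Am L) {Th : Mat 4} (hTh : ∀ j, hd L (pi j) = Th j)
  {f : ℕ} {c : Fin (f + 1) → ℤ} {V : Fin (f + 1) → Fin 4 → ℤ} {U : Fin 4 → ℤ}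
  (h : EigOK (fun i j => Th j i) c V U) (hc : c 0 = 1 ∨ c 0 = -1)

include hq hK hL hTh h hc

/-- two primes -/
theorem conn_gen {f' : ℕ} {c' : Fin (f' + 1) → ℤ} {V' : Fin (f' + 1) → Fin 4 → ℤ} {U' : Fin 4 → ℤ}
    (h' : EigOK (fun i j => Th j i) c' V' U') (hc' : c' 0 = 1 ∨ c' 0 = -1) {r s : ℕ} (hr : r.Prime) (hs : s.Prime)
    (h1 : (r : ℤ) ∣ pv c q) (h2 : (s : ℤ) ∣ pv c' q) : Conn ↥(twistedD4 K q) r s := by
  have := finW
  obtain ⟨p, e, hpF, hpk, he, hqe, hk⟩ := setup hq hK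
  have hqe' : (q : ℤ) = ((p ^ e : ℕ) : ℤ) := by rw [hqe]
  rw [hqe'] at h1 h2
  exact PGTwist.conn_of_eig RGDTwD4.hp coxeterD4.toCoxeterSystem hk he isFrob_tau (fr_tau _) TorusChar.invC_D4
    (by norm_num) (embT_injective (algebraMap K (AlgebraicClosure K)) hq hK) (d := 1)
    (fun y hy => by rw [pow_one]; exact tau_range _ hqe hq hK hy) (lin _ hL hTh) h hc h' hc' hr hs
    (fun h => hr.one_lt.ne' (Nat.dvd_one.1 h)) (fun h => hs.one_lt.ne' (Nat.dvd_one.1 h)) h1 h2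

/-- the characteristic -/
theorem conn_p_gen {r₀ : ℕ} (hr₀ : r₀ < 24)
    (hfix : ∀ m, ∑ j, vec chevD4 4 r₀ j * Th j m = vec chevD4 4 r₀ m)
    (hV : ∀ i, ∑ m, vec chevD4 4 r₀ m * V i m = 0) {r s : ℕ} (hr : r.Prime) (hs : s.Prime)
    (h1 : (r : ℤ) ∣ pv c q) (h2 : s ∣ q) : Conn ↥(twistedD4 K q) r s := by
  have := finW
  obtain ⟨p, e, hpF, hpk, he, hqe, hk⟩ := setup hq hK
  have hqe' : (q : ℤ) = ((p ^ e : ℕ) : ℤ) := by rw [hqe]
  rw [hqe'] at h1
  have hsp : s = p := (Nat.prime_dvd_prime_iff_eq hs hpF.out).1 (hs.dvd_of_dvd_pow (hqe ▸ h2))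
  subst hsp
  have hroot := (isRoot_iff RGDTwD4.hp coxeterD4.toCoxeterSystem (vec chevD4 4 r₀)).2 ⟨r₀, hr₀, rfl⟩
  have hlin := lin coxeterD4.toCoxeterSystem hL hTh
  refine PGTwist.conn_p_of_eig RGDTwD4.hp coxeterD4.toCoxeterSystem hk he isFrob_tau (fr_tau _) TorusChar.invC_D4
    (by norm_num) (embT_injective (algebraMap K (AlgebraicClosure K)) hq hK) (d := 1)
    (fun y hy => by rw [pow_one]; exact tau_range _ hqe hq hK hy) hlin h hc hroot ?_ hV hr
    (fun h => hr.one_lt.ne' (Nat.dvd_one.1 h)) (fun h => hpF.out.one_lt.ne' (Nat.dvd_one.1 h)) h1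
  funext m
  rw [← hfix m]
  have h3 : vec chevD4 4 r₀ = ∑ j, vec chevD4 4 r₀ j • sr j := TorusChar.IsMC.eq_sum_sr _
  conv_lhs => rw [h3]
  rw [map_sum, map_sum, Finset.sum_apply]
  refine Finset.sum_congr rfl fun j _ => ?_
  rw [map_zsmul, map_zsmul, hlin, Pi.smul_apply, smul_eq_mul]

end

/-- the number of the highest root -/
def r0 : ℕ := 23

/-- partial products -/
def chainA : List (Fin 4 × Mat 4) := []

theorem chainA_ok : ChainOK Am chainA := by decide +kernel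

/-- the matrix of the twisted element -/
def ThA : Mat 4 := ![![0, 0, 1, 0], ![0, 1, 0, 0], ![0, 0, 0, 1], ![1, 0, 0, 0]]

theorem hThA : ∀ j, hd chainA (pi j) = ThA j := by decide +kernel

theorem fixA : ∀ m, ∑ j, vec chevD4 4 r0 j * ThA j m = vec chevD4 4 r0 m := by decide +kernel

/-- coefficients of the functional, cyclotomic polynomial 1 -/
def VA_1 : Fin 1 → Fin 4 → ℤ := ![![2, -3, 2, 2]]

theorem eigA_1 : EigOK (fun i j => ThA j i) c1 VA_1 ![2, 1, 0, 0] := by decide +kernel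

theorem vanA_1 : ∀ i, ∑ m, vec chevD4 4 r0 m * VA_1 i m = 0 := by decide +kernel

/-- coefficients of the functional, cyclotomic polynomial 3 -/
def VA_3 : Fin 2 → Fin 4 → ℤ := ![![-1, 0, 1, 0], ![-1, 0, 0, 1]]

theorem eigA_3 : EigOK (fun i j => ThA j i) c3 VA_3 ![0, 0, 1, 0] := by decide +kernel

theorem vanA_3 : ∀ i, ∑ m, vec chevD4 4 r0 m * VA_3 i m = 0 := by decide +kernel

/-- partial products -/
def chainB : List (Fin 4 × Mat 4) := [
    (3, ![![1, 0, 0, 0], ![0, 1, 0, 1], ![0, 0, 1, 0], ![0, 0, 0, -1]])]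

theorem chainB_ok : ChainOK Am chainB := by decide +kernel

/-- the matrix of the twisted element -/
def ThB : Mat 4 := ![![0, 0, 1, 0], ![0, 1, 0, 1], ![0, 0, 0, -1], ![1, 0, 0, 0]]

theorem hThB : ∀ j, hd chainB (pi j) = ThB j := by decide +kernel

theorem fixB : ∀ m, ∑ j, vec chevD4 4 r0 j * ThB j m = vec chevD4 4 r0 m := by decide +kernel

/-- coefficients of the functional, cyclotomic polynomial 2 -/
def VB_2 : Fin 1 → Fin 4 → ℤ := ![![2, 1, -2, -2]]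

theorem eigB_2 : EigOK (fun i j => ThB j i) c2 VB_2 ![0, 1, 0, 0] := by decide +kernel

theorem vanB_2 : ∀ i, ∑ m, vec chevD4 4 r0 m * VB_2 i m = 0 := by decide +kernel

/-- coefficients of the functional, cyclotomic polynomial 6 -/
def VB_6 : Fin 2 → Fin 4 → ℤ := ![![1, -1, 0, 1], ![0, 0, 1, -1]]

theorem eigB_6 : EigOK (fun i j => ThB j i) c6 VB_6 ![1, 0, 0, 0] := by decide +kernel

theorem vanB_6 : ∀ i, ∑ m, vec chevD4 4 r0 m * VB_6 i m = 0 := by decide +kernel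

/-- partial products -/
def chainC : List (Fin 4 × Mat 4) := [
    (0, ![![0, 1, 0, 0], ![-1, -1, 0, 0], ![1, 1, 1, 0], ![1, 1, 0, 1]]),
    (1, ![![1, 1, 0, 0], ![0, -1, 0, 0], ![0, 1, 1, 0], ![0, 1, 0, 1]])]

theorem chainC_ok : ChainOK Am chainC := by decide +kernel

/-- the matrix of the twisted element -/
def ThC : Mat 4 := ![![1, 1, 1, 0], ![-1, -1, 0, 0], ![1, 1, 0, 1], ![0, 1, 0, 0]]

theorem hThC : ∀ j, hd chainC (pi j) = ThC j := by decide +kernel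

/-- coefficients of the functional, cyclotomic polynomial 12 -/
def VC_12 : Fin 4 → Fin 4 → ℤ := ![![0, 0, 0, -1], ![1, -1, 0, 0], ![1, 0, 0, 0], ![0, 0, 1, 0]]

theorem eigC_12 : EigOK (fun i j => ThC j i) c12 VC_12 ![0, 0, 0, -1] := by decide +kernel

/-- Nat divisor of the product of values -/
theorem cover {q r : ℕ} (hq : 2 ≤ q) (hr : r.Prime)
    (h : r ∣ q ^ 12 * (q ^ 2 - 1) * (q ^ 6 - 1) * (q ^ 8 + q ^ 4 + 1)) :
    (r ∣ q ∨ (r : ℤ) ∣ pv c1 q ∨ (r : ℤ) ∣ pv c2 q ∨ (r : ℤ) ∣ pv c3 q ∨ (r : ℤ) ∣ pv c6 q) ∨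
      (r : ℤ) ∣ pv c12 q := by
  have h2 : 1 ≤ q ^ 2 := Nat.one_le_pow _ _ (by omega)
  have h6 : 1 ≤ q ^ 6 := Nat.one_le_pow _ _ (by omega)
  have hr' : Prime (r : ℤ) := Nat.prime_iff_prime_int.1 hr
  have h1 := Int.natCast_dvd_natCast.2 h
  push_cast [Nat.cast_sub h2, Nat.cast_sub h6] at h1
  have e : (q : ℤ) ^ 12 * ((q : ℤ) ^ 2 - 1) * ((q : ℤ) ^ 6 - 1) * ((q : ℤ) ^ 8 + (q : ℤ) ^ 4 + 1) =
      (q : ℤ) ^ 12 * (pv c1 q * pv c2 q) * (pv c1 q * pv c2 q * pv c3 q * pv c6 q) *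
        (pv c3 q * pv c6 q * pv c12 q) := by
    rw [pv_c1, pv_c2, pv_c3, pv_c6, pv_c12]; ring
  rw [e] at h1
  simp only [hr'.dvd_mul] at h1
  rcases h1 with ((h1 | h1) | h1) | h1
  · exact Or.inl (Or.inl (Int.natCast_dvd_natCast.1 (hr'.dvd_of_dvd_pow h1)))
  · tauto
  · tauto
  · tauto

/-- two connected classes -/
theorem few_tw {K : Type u} [Field K] [Fintype K] {q : ℕ} (hq : IsPrimePow q) (hK : Fintype.card K = q ^ 3) :
    Few 3 ↥(twistedD4 K q) := by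
  obtain ⟨p, n, hp, hn, hpn⟩ := id hq
  have hp := hp.nat_prime
  have hpq : p ∣ q := hpn ▸ dvd_pow_self p hn.ne'
  have hC0 : ∀ {r : ℕ}, r.Prime → (r ∣ q ∨ (r : ℤ) ∣ pv c1 q ∨ (r : ℤ) ∣ pv c2 q ∨ (r : ℤ) ∣ pv c3 q ∨
      (r : ℤ) ∣ pv c6 q) → Conn ↥(twistedD4 K q) r p := by
    intro r hr h
    rcases h with h | h | h | h | h
    · rw [← hpn] at h
      rw [(Nat.prime_dvd_prime_iff_eq hr hp).1 (hr.dvd_of_dvd_pow h)]
      exact Conn.refl _
    · exact conn_p_gen hq hK chainA_ok hThA eigA_1 (by decide) (by decide) fixA vanA_1 hr hp h hpq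
    · exact conn_p_gen hq hK chainB_ok hThB eigB_2 (by decide) (by decide) fixB vanB_2 hr hp h hpq
    · exact conn_p_gen hq hK chainA_ok hThA eigA_3 (by decide) (by decide) fixA vanA_3 hr hp h hpq
    · exact conn_p_gen hq hK chainB_ok hThB eigB_6 (by decide) (by decide) fixB vanB_6 hr hp h hpq
  refine few_of_cover (k := 2) (by norm_num) (Fin.cons (fun r => r ∣ q ∨ (r : ℤ) ∣ pv c1 q ∨ (r : ℤ) ∣ pv c2 q ∨
    (r : ℤ) ∣ pv c3 q ∨ (r : ℤ) ∣ pv c6 q) (fun _ r => (r : ℤ) ∣ pv c12 q)) ?_ ?_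
  · intro r hr hrG
    rw [Cfsg.Agent.S1067.result hq hK] at hrG
    rcases cover hq.two_le hr hrG with h | h
    · exact ⟨0, h⟩
    · exact ⟨1, h⟩
  · intro i
    refine Fin.cases ?_ (fun i => ?_) i
    · intro r s hr hs _ _ h1 h2
      exact (hC0 hr h1).trans (hC0 hs h2).symm
    · intro r s hr hs _ _ h1 h2
      exact conn_gen hq hK chainC_ok hThC eigC_12 (by decide) eigC_12 (by decide) hr hs h1 h2

/-- **The prime graph of `³D₄(q)` has at most two components.** -/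
theorem few_iso3D4 {G : Type*} [Group G] (hG : Iso3D4 G) : Few 3 G := by
  obtain ⟨K, _, _, q, hq, hK, ⟨e⟩⟩ := hG
  exact Few.congr e.symm (few_tw hq hK)

end Cfsg.Agent.H493.PGD4T
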