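import Cfsg.Agent.H77.E4Poly_m3
import Cfsg.Agent.S1092
import Cfsg.Agent.S1093
import Cfsg.Agent.H493.EigFast
import Cfsg.Agent.H129.RootFast
import Cfsg.Agent.Prune
set_option linter.all false

-- part: H493/PGE6
section
set_option linter.all false
open scoped Cfsg.Agent.FastGrp

/-!
# Adjacency inside one cyclotomic torus, type E6
-/

set_option autoImplicit false

namespace Cfsg.Agent.H493.PGE6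

open Cfsg.Agent.H129.WData Cfsg.Agent.ChevalleyStructure.CoxeterGeomTypes Cfsg.Agent.Nodes.RGDChev
open Cfsg.Lie Cfsg.Lie.ChevalleyDatum
open Cfsg.Agent.H493.PGTorus Cfsg.Agent.H493.PGCyc

universe u

/-- the Cartan matrix -/
def Am : Mat 6 := ![![2, 0, -1, 0, 0, 0], ![0, 2, 0, -1, 0, 0], ![-1, 0, 2, -1, 0, 0], ![0, -1, -1, 2, -1, 0],
    ![0, 0, 0, -1, 2, -1], ![0, 0, 0, 0, -1, 2]]

theorem hA : ∀ i j, Am i j = cartanOf chevE6 6 i j := by decide +kernel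

theorem hp : IsType chevE6 6 CoxeterMatrix.E₆ := by simp

theorem finW : Finite CoxeterMatrix.E₆.Group := by
  have hW : Nat.card CoxeterMatrix.E₆.Group = 51840 :=
    Cfsg.Agent.S1093.result (⟨6, CoxeterMatrix.E₆⟩, 51840) (by simp)
  exact Nat.finite_of_card_ne_zero (by rw [hW]; norm_num)

/-- partial products of an element with characteristic polynomial divisible by the cyclotomic polynomial 9 -/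
def chain9 : List (Fin 6 × Mat 6) := [
    (5, ![![-1, 0, -1, -1, -1, -1], ![0, 0, -1, 0, 0, 0], ![1, 1, 1, 1, 1, 1], ![0, -1, 0, -1, -1, -1],
      ![0, 1, 1, 2, 1, 1], ![0, 0, 0, 0, 1, 0]]),
    (4, ![![-1, 0, -1, -1, -1, 0], ![0, 0, -1, 0, 0, 0], ![1, 1, 1, 1, 1, 0], ![0, -1, 0, -1, -1, 0],
      ![0, 1, 1, 2, 1, 0], ![0, 0, 0, 0, 1, 1]]),
    (3, ![![-1, 0, -1, -1, 0, 0], ![0, 0, -1, 0, 0, 0], ![1, 1, 1, 1, 0, 0], ![0, -1, 0, -1, 0, 0], ![0, 1, 1, 2, 1, 0],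
      ![0, 0, 0, 0, 0, 1]]),
    (2, ![![-1, 0, -1, 0, 0, 0], ![0, 0, -1, -1, 0, 0], ![1, 1, 1, 1, 0, 0], ![0, -1, 0, 0, 0, 0], ![0, 1, 1, 1, 1, 0],
      ![0, 0, 0, 0, 0, 1]]),
    (1, ![![-1, 0, 0, 0, 0, 0], ![0, 0, 0, -1, 0, 0], ![1, 1, 1, 1, 0, 0], ![0, -1, 0, 0, 0, 0], ![0, 1, 0, 1, 1, 0],
      ![0, 0, 0, 0, 0, 1]]),
    (3, ![![-1, 0, 0, 0, 0, 0], ![0, -1, 0, -1, 0, 0], ![1, 0, 1, 1, 0, 0], ![0, 1, 0, 0, 0, 0], ![0, 0, 0, 1, 1, 0],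
      ![0, 0, 0, 0, 0, 1]]),
    (1, ![![-1, 0, 0, 0, 0, 0], ![0, -1, 0, 0, 0, 0], ![1, 0, 1, 0, 0, 0], ![0, 1, 0, 1, 0, 0], ![0, 0, 0, 0, 1, 0],
      ![0, 0, 0, 0, 0, 1]]),
    (0, ![![-1, 0, 0, 0, 0, 0], ![0, 1, 0, 0, 0, 0], ![1, 0, 1, 0, 0, 0], ![0, 0, 0, 1, 0, 0], ![0, 0, 0, 0, 1, 0],
      ![0, 0, 0, 0, 0, 1]])]

theorem chain9_ok : ChainOK Am chain9 :=
  H129.ChainF.ok H129.ChainF.i6 H129.ChainF.m6 (H129.ChainF.c6 <| H129.ChainF.c6 <| H129.ChainF.c6 <| H129.ChainF.c6 <| H129.ChainF.c6 <| H129.ChainF.c6 <| H129.ChainF.c6 <| H129.ChainF.c6 <| H129.ChainF.nil) (by decide +kernel)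

/-- coefficients of the eigenvector -/
def V9 : Fin 6 → Fin 6 → ℤ := ![![-1, 0, -1, 0, 0, 0], ![0, 0, -1, -1, 0, 0], ![0, 0, 0, -1, -1, 0], ![-1, -1, -1, -1, -1, -1],
    ![0, 0, -1, 0, 0, 0], ![0, 1, 0, 0, 0, 0]]

/-- the functional -/
def U9 : Fin 6 → ℤ := ![-1, 0, 0, 0, 0, 1]

theorem eig9 : EigOK (hd chain9) c9 V9 U9 :=
  H493.EigF.ok (H493.EigF.hT H493.EigF.t6) H493.EigF.r6 (H493.EigF.mc H493.EigF.r6 <| H493.EigF.mc H493.EigF.r6 <| H493.EigF.mc H493.EigF.r6 <| H493.EigF.mc H493.EigF.r6 <| H493.EigF.mc H493.EigF.r6 <| H493.EigF.mc H493.EigF.r6 <| H493.EigF.m0) H493.EigF.r6 (by decide +kernel)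

theorem conn9 {F : Type u} [Field F] [Finite F] {r s : ℕ} (hr : r.Prime) (hs : s.Prime)
    (hrd : ¬ r ∣ 3) (hsd : ¬ s ∣ 3) (h1 : (r : ℤ) ∣ pv c9 (Nat.card F)) (h2 : (s : ℤ) ∣ pv c9 (Nat.card F)) :
    PG.Conn ↥(chevE6.group F) r s := by
  have := finW
  exact conn_of_eig hp CoxeterMatrix.E₆.toCoxeterSystem H129.TorusChar.invC_E6 (by norm_num)
    (chain_rep hp CoxeterMatrix.E₆.toCoxeterSystem hA chain9_ok) eig9 eig9 hr hs hrd hsd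
    h1 h2

/-- partial products of an element with characteristic polynomial divisible by the cyclotomic polynomial 8 -/
def chain8 : List (Fin 6 × Mat 6) := [
    (0, ![![0, 0, 1, 1, 0, 0], ![0, -1, 0, -1, 0, 0], ![-1, 0, -1, -1, 0, 0], ![1, 1, 1, 2, 1, 0],
      ![0, 0, 0, -1, -1, 0], ![0, 0, 0, 1, 1, 1]]),
    (3, ![![1, 0, 1, 1, 0, 0], ![0, -1, 0, -1, 0, 0], ![0, 0, -1, -1, 0, 0], ![0, 1, 1, 2, 1, 0], ![0, 0, 0, -1, -1, 0],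
      ![0, 0, 0, 1, 1, 1]]),
    (4, ![![1, 0, 1, 0, 0, 0], ![0, -1, 0, 0, 0, 0], ![0, 0, -1, 0, 0, 0], ![0, 1, 1, 1, 1, 0], ![0, 0, 0, 0, -1, 0],
      ![0, 0, 0, 0, 1, 1]]),
    (1, ![![1, 0, 1, 0, 0, 0], ![0, -1, 0, 0, 0, 0], ![0, 0, -1, 0, 0, 0], ![0, 1, 1, 1, 0, 0], ![0, 0, 0, 0, 1, 0],
      ![0, 0, 0, 0, 0, 1]]),
    (2, ![![1, 0, 1, 0, 0, 0], ![0, 1, 0, 0, 0, 0], ![0, 0, -1, 0, 0, 0], ![0, 0, 1, 1, 0, 0], ![0, 0, 0, 0, 1, 0],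
      ![0, 0, 0, 0, 0, 1]])]

theorem chain8_ok : ChainOK Am chain8 :=
  H129.ChainF.ok H129.ChainF.i6 H129.ChainF.m6 (H129.ChainF.c6 <| H129.ChainF.c6 <| H129.ChainF.c6 <| H129.ChainF.c6 <| H129.ChainF.c6 <| H129.ChainF.nil) (by decide +kernel)

/-- coefficients of the eigenvector -/
def V8 : Fin 4 → Fin 6 → ℤ := ![![0, 0, -1, -1, 0, 0], ![-1, 0, 0, 0, 0, 0], ![1, 0, 1, 0, 0, 0], ![0, 1, 0, 1, 1, 0]]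

/-- the functional -/
def U8 : Fin 6 → ℤ := ![0, 1, 0, -1, 0, 0]

theorem eig8 : EigOK (hd chain8) c8 V8 U8 :=
  H493.EigF.ok (H493.EigF.hT H493.EigF.t6) H493.EigF.r4 (H493.EigF.mc H493.EigF.r6 <| H493.EigF.mc H493.EigF.r6 <| H493.EigF.mc H493.EigF.r6 <| H493.EigF.mc H493.EigF.r6 <| H493.EigF.m0) H493.EigF.r6 (by decide +kernel)

/-- partial products of an element with characteristic polynomial divisible by the cyclotomic polynomial 12 -/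
def chain12 : List (Fin 6 × Mat 6) := [
    (2, ![![-1, 0, -1, 0, 0, 0], ![0, 0, 1, 1, 0, 0], ![1, 1, 1, 1, 0, 0], ![0, 0, 0, 0, 1, 1],
      ![0, -1, -1, -1, -1, -1], ![0, 1, 1, 1, 1, 0]]),
    (1, ![![-1, 0, 0, 0, 0, 0], ![0, 0, 0, 1, 0, 0], ![1, 1, 1, 1, 0, 0], ![0, 0, 0, 0, 1, 1], ![0, -1, 0, -1, -1, -1],
      ![0, 1, 0, 1, 1, 0]]),
    (5, ![![-1, 0, 0, 0, 0, 0], ![0, 1, 0, 1, 0, 0], ![1, 0, 1, 1, 0, 0], ![0, 0, 0, 0, 1, 1], ![0, 0, 0, -1, -1, -1],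
      ![0, 0, 0, 1, 1, 0]]),
    (3, ![![-1, 0, 0, 0, 0, 0], ![0, 1, 0, 1, 0, 0], ![1, 0, 1, 1, 0, 0], ![0, 0, 0, 0, 1, 0], ![0, 0, 0, -1, -1, 0],
      ![0, 0, 0, 1, 1, 1]]),
    (4, ![![-1, 0, 0, 0, 0, 0], ![0, 1, 0, 0, 0, 0], ![1, 0, 1, 0, 0, 0], ![0, 0, 0, 1, 1, 0], ![0, 0, 0, 0, -1, 0],
      ![0, 0, 0, 0, 1, 1]]),
    (0, ![![-1, 0, 0, 0, 0, 0], ![0, 1, 0, 0, 0, 0], ![1, 0, 1, 0, 0, 0], ![0, 0, 0, 1, 0, 0], ![0, 0, 0, 0, 1, 0],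
      ![0, 0, 0, 0, 0, 1]])]

theorem chain12_ok : ChainOK Am chain12 :=
  H129.ChainF.ok H129.ChainF.i6 H129.ChainF.m6 (H129.ChainF.c6 <| H129.ChainF.c6 <| H129.ChainF.c6 <| H129.ChainF.c6 <| H129.ChainF.c6 <| H129.ChainF.c6 <| H129.ChainF.nil) (by decide +kernel)

/-- coefficients of the eigenvector -/
def V12 : Fin 4 → Fin 6 → ℤ := ![![0, 1, 0, 1, 1, 0], ![1, 0, 1, 1, 1, 1], ![0, 0, 1, 1, 0, 0], ![0, 1, 0, 0, 0, 0]]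

/-- the functional -/
def U12 : Fin 6 → ℤ := ![0, 0, -1, 1, 0, 0]

theorem eig12 : EigOK (hd chain12) c12 V12 U12 :=
  H493.EigF.ok (H493.EigF.hT H493.EigF.t6) H493.EigF.r4 (H493.EigF.mc H493.EigF.r6 <| H493.EigF.mc H493.EigF.r6 <| H493.EigF.mc H493.EigF.r6 <| H493.EigF.mc H493.EigF.r6 <| H493.EigF.m0) H493.EigF.r6 (by decide +kernel)

end Cfsg.Agent.H493.PGE6
end

-- part: H493/PGE7
section
prune_inst 0x7f00000000000000000000000000000000000000000000000000000000000000000000000000000000000000000000000000000000000000000000000000000000000000000000000000000000000000003fffffffffffffffffffffffffffbeffbdffffffff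
set_option linter.all false
open scoped Cfsg.Agent.FastGrp

/-!
# Adjacency inside one cyclotomic torus, type E7
-/

set_option autoImplicit false

namespace Cfsg.Agent.H493.PGE7

open Cfsg.Agent.H129.WData Cfsg.Agent.ChevalleyStructure.CoxeterGeomTypes Cfsg.Agent.Nodes.RGDChev
open Cfsg.Lie Cfsg.Lie.ChevalleyDatum
open Cfsg.Agent.H493.PGTorus Cfsg.Agent.H493.PGCyc

universe u

/-- the Cartan matrix -/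
def Am : Mat 7 := ![![2, 0, -1, 0, 0, 0, 0], ![0, 2, 0, -1, 0, 0, 0], ![-1, 0, 2, -1, 0, 0, 0], ![0, -1, -1, 2, -1, 0, 0],
    ![0, 0, 0, -1, 2, -1, 0], ![0, 0, 0, 0, -1, 2, -1], ![0, 0, 0, 0, 0, -1, 2]]

theorem hA : ∀ i j, Am i j = cartanOf chevE7 7 i j :=
  H129.RootF.cE7

theorem hp : IsType chevE7 7 CoxeterMatrix.E₇ := by simp

theorem finW : Finite CoxeterMatrix.E₇.Group := by
  have hW : Nat.card CoxeterMatrix.E₇.Group = 2903040 :=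
    Cfsg.Agent.S1093.result (⟨7, CoxeterMatrix.E₇⟩, 2903040) (by simp)
  exact Nat.finite_of_card_ne_zero (by rw [hW]; norm_num)

/-- partial products of an element with characteristic polynomial divisible by the cyclotomic polynomial 7 -/
def chain7 : List (Fin 7 × Mat 7) := [
    (0, ![![0, 0, 1, 1, 0, 0, 0], ![0, 1, 0, 1, 0, 0, 0], ![-1, 0, -1, -1, 0, 0, 0], ![1, 0, 1, 1, 1, 1, 0],
      ![0, 0, 0, -1, -1, -1, 0], ![0, 0, 0, 1, 1, 1, 1], ![0, 0, 0, 0, 0, -1, -1]]),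
    (5, ![![1, 0, 1, 1, 0, 0, 0], ![0, 1, 0, 1, 0, 0, 0], ![0, 0, -1, -1, 0, 0, 0], ![0, 0, 1, 1, 1, 1, 0],
      ![0, 0, 0, -1, -1, -1, 0], ![0, 0, 0, 1, 1, 1, 1], ![0, 0, 0, 0, 0, -1, -1]]),
    (3, ![![1, 0, 1, 1, 0, 0, 0], ![0, 1, 0, 1, 0, 0, 0], ![0, 0, -1, -1, 0, 0, 0], ![0, 0, 1, 1, 1, 0, 0],
      ![0, 0, 0, -1, -1, 0, 0], ![0, 0, 0, 1, 1, 1, 1], ![0, 0, 0, 0, 0, 0, -1]]),
    (2, ![![1, 0, 1, 0, 0, 0, 0], ![0, 1, 0, 0, 0, 0, 0], ![0, 0, -1, 0, 0, 0, 0], ![0, 0, 1, 1, 1, 0, 0],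
      ![0, 0, 0, 0, -1, 0, 0], ![0, 0, 0, 0, 1, 1, 1], ![0, 0, 0, 0, 0, 0, -1]]),
    (6, ![![1, 0, 0, 0, 0, 0, 0], ![0, 1, 0, 0, 0, 0, 0], ![0, 0, 1, 0, 0, 0, 0], ![0, 0, 0, 1, 1, 0, 0],
      ![0, 0, 0, 0, -1, 0, 0], ![0, 0, 0, 0, 1, 1, 1], ![0, 0, 0, 0, 0, 0, -1]]),
    (4, ![![1, 0, 0, 0, 0, 0, 0], ![0, 1, 0, 0, 0, 0, 0], ![0, 0, 1, 0, 0, 0, 0], ![0, 0, 0, 1, 1, 0, 0],
      ![0, 0, 0, 0, -1, 0, 0], ![0, 0, 0, 0, 1, 1, 0], ![0, 0, 0, 0, 0, 0, 1]])]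

theorem chain7_ok : ChainOK Am chain7 :=
  H129.ChainF.ok H129.ChainF.i7 H129.ChainF.m7 (H129.ChainF.c7 <| H129.ChainF.c7 <| H129.ChainF.c7 <| H129.ChainF.c7 <| H129.ChainF.c7 <| H129.ChainF.c7 <| H129.ChainF.nil) (by decide +kernel)

/-- coefficients of the eigenvector -/
def V7 : Fin 6 → Fin 7 → ℤ := ![![0, 0, 0, 0, -1, -1, 0], ![0, 0, -1, -1, -1, -1, 0], ![-1, 0, -1, -1, -1, -1, 0], ![0, 0, 0, -1, -1, -1, 0],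
    ![0, 0, 0, 0, 0, -1, 0], ![0, 0, 0, 0, 0, 0, 1]]

/-- the functional -/
def U7 : Fin 7 → ℤ := ![0, 0, 0, 1, -1, 0, 0]

theorem eig7 : EigOK (hd chain7) c7 V7 U7 :=
  H493.EigF.ok (H493.EigF.hT H493.EigF.t7) H493.EigF.r6 (H493.EigF.mc H493.EigF.r7 <| H493.EigF.mc H493.EigF.r7 <| H493.EigF.mc H493.EigF.r7 <| H493.EigF.mc H493.EigF.r7 <| H493.EigF.mc H493.EigF.r7 <| H493.EigF.mc H493.EigF.r7 <| H493.EigF.m0) H493.EigF.r7 (by decide +kernel)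

theorem conn7 {F : Type u} [Field F] [Finite F] {r s : ℕ} (hr : r.Prime) (hs : s.Prime)
    (hrd : ¬ r ∣ 2) (hsd : ¬ s ∣ 2) (h1 : (r : ℤ) ∣ pv c7 (Nat.card F)) (h2 : (s : ℤ) ∣ pv c7 (Nat.card F)) :
    PG.Conn ↥(chevE7.group F) r s := by
  have := finW
  exact conn_of_eig hp CoxeterMatrix.E₇.toCoxeterSystem H129.TorusChar.invC_E7 (by norm_num)
    (chain_rep hp CoxeterMatrix.E₇.toCoxeterSystem hA chain7_ok) eig7 eig7 hr hs hrd hsd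
    h1 h2

/-- partial products of an element with characteristic polynomial divisible by the cyclotomic polynomial 9 -/
def chain9 : List (Fin 7 × Mat 7) := [
    (2, ![![-1, 0, -1, 0, 0, 0, 0], ![0, 0, 0, 0, -1, 0, 0], ![1, 1, 2, 2, 1, 0, 0], ![0, -1, -1, -1, 0, 0, 0],
      ![0, 1, 1, 1, 1, 1, 1], ![0, 0, 0, 0, 0, 0, -1], ![0, 0, -1, -1, -1, -1, 0]]),
    (4, ![![-1, 0, 0, 0, 0, 0, 0], ![0, 0, 0, 0, -1, 0, 0], ![1, 1, 1, 2, 1, 0, 0], ![0, -1, 0, -1, 0, 0, 0],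
      ![0, 1, 0, 1, 1, 1, 1], ![0, 0, 0, 0, 0, 0, -1], ![0, 0, 0, -1, -1, -1, 0]]),
    (0, ![![-1, 0, 0, 0, 0, 0, 0], ![0, 0, 0, 0, 1, 0, 0], ![1, 1, 1, 2, 1, 0, 0], ![0, -1, 0, -1, -1, 0, 0],
      ![0, 1, 0, 1, 1, 1, 1], ![0, 0, 0, 0, 0, 0, -1], ![0, 0, 0, -1, -1, -1, 0]]),
    (3, ![![1, 0, 0, 0, 0, 0, 0], ![0, 0, 0, 0, 1, 0, 0], ![0, 1, 1, 2, 1, 0, 0], ![0, -1, 0, -1, -1, 0, 0],
      ![0, 1, 0, 1, 1, 1, 1], ![0, 0, 0, 0, 0, 0, -1], ![0, 0, 0, -1, -1, -1, 0]]),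
    (5, ![![1, 0, 0, 0, 0, 0, 0], ![0, 0, 0, 1, 1, 0, 0], ![0, 1, 1, 1, 1, 0, 0], ![0, -1, 0, -1, -1, 0, 0],
      ![0, 1, 0, 1, 1, 1, 1], ![0, 0, 0, 0, 0, 0, -1], ![0, 0, 0, 0, -1, -1, 0]]),
    (4, ![![1, 0, 0, 0, 0, 0, 0], ![0, 0, 0, 1, 1, 1, 0], ![0, 1, 1, 1, 1, 1, 0], ![0, -1, 0, -1, -1, -1, 0],
      ![0, 1, 0, 1, 1, 1, 1], ![0, 0, 0, 0, 0, -1, -1], ![0, 0, 0, 0, -1, 0, 0]]),
    (1, ![![1, 0, 0, 0, 0, 0, 0], ![0, 0, 0, 1, 1, 1, 0], ![0, 1, 1, 1, 1, 1, 0], ![0, -1, 0, -1, -1, -1, 0],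
      ![0, 1, 0, 1, 1, 1, 1], ![0, 0, 0, 0, -1, -1, -1], ![0, 0, 0, 0, 1, 0, 0]]),
    (5, ![![1, 0, 0, 0, 0, 0, 0], ![0, 1, 0, 1, 1, 1, 0], ![0, 0, 1, 1, 1, 1, 0], ![0, 0, 0, -1, -1, -1, 0],
      ![0, 0, 0, 1, 1, 1, 1], ![0, 0, 0, 0, -1, -1, -1], ![0, 0, 0, 0, 1, 0, 0]]),
    (4, ![![1, 0, 0, 0, 0, 0, 0], ![0, 1, 0, 1, 1, 0, 0], ![0, 0, 1, 1, 1, 0, 0], ![0, 0, 0, -1, -1, 0, 0],
      ![0, 0, 0, 1, 1, 1, 1], ![0, 0, 0, 0, -1, -1, -1], ![0, 0, 0, 0, 1, 1, 0]]),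
    (6, ![![1, 0, 0, 0, 0, 0, 0], ![0, 1, 0, 1, 0, 0, 0], ![0, 0, 1, 1, 0, 0, 0], ![0, 0, 0, -1, 0, 0, 0],
      ![0, 0, 0, 1, 1, 1, 1], ![0, 0, 0, 0, 0, -1, -1], ![0, 0, 0, 0, 0, 1, 0]]),
    (5, ![![1, 0, 0, 0, 0, 0, 0], ![0, 1, 0, 1, 0, 0, 0], ![0, 0, 1, 1, 0, 0, 0], ![0, 0, 0, -1, 0, 0, 0],
      ![0, 0, 0, 1, 1, 1, 0], ![0, 0, 0, 0, 0, -1, 0], ![0, 0, 0, 0, 0, 1, 1]]),
    (3, ![![1, 0, 0, 0, 0, 0, 0], ![0, 1, 0, 1, 0, 0, 0], ![0, 0, 1, 1, 0, 0, 0], ![0, 0, 0, -1, 0, 0, 0],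
      ![0, 0, 0, 1, 1, 0, 0], ![0, 0, 0, 0, 0, 1, 0], ![0, 0, 0, 0, 0, 0, 1]])]

theorem chain9_ok : ChainOK Am chain9 :=
  H129.ChainF.ok H129.ChainF.i7 H129.ChainF.m7 (H129.ChainF.c7 <| H129.ChainF.c7 <| H129.ChainF.c7 <| H129.ChainF.c7 <| H129.ChainF.c7 <| H129.ChainF.c7 <| H129.ChainF.c7 <| H129.ChainF.c7 <| H129.ChainF.c7 <| H129.ChainF.c7 <| H129.ChainF.c7 <| H129.ChainF.c7 <| H129.ChainF.nil) (by decide +kernel)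

/-- coefficients of the eigenvector -/
def V9 : Fin 6 → Fin 7 → ℤ := ![![-1, 0, -1, -1, 0, 0, 0], ![0, -1, -1, -1, 0, 0, 0], ![0, 0, 0, 1, 0, 0, 0], ![0, 1, 0, 0, 0, 0, 0],
    ![0, 0, 0, 0, 1, 1, 1], ![0, 0, 0, 1, 1, 0, 0]]

/-- the functional -/
def U9 : Fin 7 → ℤ := ![-1, 0, 0, 0, 0, 0, 0]

theorem eig9 : EigOK (hd chain9) c9 V9 U9 :=
  H493.EigF.ok (H493.EigF.hT H493.EigF.t7) H493.EigF.r6 (H493.EigF.mc H493.EigF.r7 <| H493.EigF.mc H493.EigF.r7 <| H493.EigF.mc H493.EigF.r7 <| H493.EigF.mc H493.EigF.r7 <| H493.EigF.mc H493.EigF.r7 <| H493.EigF.mc H493.EigF.r7 <| H493.EigF.m0) H493.EigF.r7 (by decide +kernel)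

theorem conn9 {F : Type u} [Field F] [Finite F] {r s : ℕ} (hr : r.Prime) (hs : s.Prime)
    (hrd : ¬ r ∣ 2) (hsd : ¬ s ∣ 2) (h1 : (r : ℤ) ∣ pv c9 (Nat.card F)) (h2 : (s : ℤ) ∣ pv c9 (Nat.card F)) :
    PG.Conn ↥(chevE7.group F) r s := by
  have := finW
  exact conn_of_eig hp CoxeterMatrix.E₇.toCoxeterSystem H129.TorusChar.invC_E7 (by norm_num)
    (chain_rep hp CoxeterMatrix.E₇.toCoxeterSystem hA chain9_ok) eig9 eig9 hr hs hrd hsd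
    h1 h2

/-- partial products of an element with characteristic polynomial divisible by the cyclotomic polynomial 14 -/
def chain14 : List (Fin 7 × Mat 7) := [
    (6, ![![0, 0, 1, 0, 0, 0, 0], ![0, 0, 0, 0, 1, 0, 0], ![1, 1, 1, 2, 1, 0, 0], ![0, 0, 0, 0, 0, 1, 1],
      ![-1, -1, -1, -1, -1, -1, -1], ![0, 1, 0, 0, 0, 0, 0], ![1, 0, 1, 1, 1, 1, 0]]),
    (0, ![![0, 0, 1, 0, 0, 0, 0], ![0, 0, 0, 0, 1, 0, 0], ![1, 1, 1, 2, 1, 0, 0], ![0, 0, 0, 0, 0, 1, 0],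
      ![-1, -1, -1, -1, -1, -1, 0], ![0, 1, 0, 0, 0, 0, 0], ![1, 0, 1, 1, 1, 1, 1]]),
    (2, ![![1, 0, 1, 0, 0, 0, 0], ![0, 0, 0, 0, 1, 0, 0], ![0, 1, 1, 2, 1, 0, 0], ![0, 0, 0, 0, 0, 1, 0],
      ![0, -1, -1, -1, -1, -1, 0], ![0, 1, 0, 0, 0, 0, 0], ![0, 0, 1, 1, 1, 1, 1]]),
    (3, ![![1, 0, 0, 0, 0, 0, 0], ![0, 0, 0, 0, 1, 0, 0], ![0, 1, 1, 2, 1, 0, 0], ![0, 0, 0, 0, 0, 1, 0],
      ![0, -1, 0, -1, -1, -1, 0], ![0, 1, 0, 0, 0, 0, 0], ![0, 0, 0, 1, 1, 1, 1]]),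
    (4, ![![1, 0, 0, 0, 0, 0, 0], ![0, 0, 0, 1, 1, 0, 0], ![0, 1, 1, 1, 1, 0, 0], ![0, 0, 0, 0, 0, 1, 0],
      ![0, -1, 0, -1, -1, -1, 0], ![0, 1, 0, 1, 0, 0, 0], ![0, 0, 0, 0, 1, 1, 1]]),
    (1, ![![1, 0, 0, 0, 0, 0, 0], ![0, 0, 0, 1, 0, 0, 0], ![0, 1, 1, 1, 0, 0, 0], ![0, 0, 0, 0, 1, 1, 0],
      ![0, -1, 0, -1, -1, -1, 0], ![0, 1, 0, 1, 1, 0, 0], ![0, 0, 0, 0, 0, 1, 1]]),
    (5, ![![1, 0, 0, 0, 0, 0, 0], ![0, 1, 0, 1, 0, 0, 0], ![0, 0, 1, 1, 0, 0, 0], ![0, 0, 0, 0, 1, 1, 0],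
      ![0, 0, 0, -1, -1, -1, 0], ![0, 0, 0, 1, 1, 0, 0], ![0, 0, 0, 0, 0, 1, 1]]),
    (3, ![![1, 0, 0, 0, 0, 0, 0], ![0, 1, 0, 1, 0, 0, 0], ![0, 0, 1, 1, 0, 0, 0], ![0, 0, 0, 0, 1, 0, 0],
      ![0, 0, 0, -1, -1, 0, 0], ![0, 0, 0, 1, 1, 1, 0], ![0, 0, 0, 0, 0, 0, 1]]),
    (4, ![![1, 0, 0, 0, 0, 0, 0], ![0, 1, 0, 0, 0, 0, 0], ![0, 0, 1, 0, 0, 0, 0], ![0, 0, 0, 1, 1, 0, 0],
      ![0, 0, 0, 0, -1, 0, 0], ![0, 0, 0, 0, 1, 1, 0], ![0, 0, 0, 0, 0, 0, 1]])]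

theorem chain14_ok : ChainOK Am chain14 :=
  H129.ChainF.ok H129.ChainF.i7 H129.ChainF.m7 (H129.ChainF.c7 <| H129.ChainF.c7 <| H129.ChainF.c7 <| H129.ChainF.c7 <| H129.ChainF.c7 <| H129.ChainF.c7 <| H129.ChainF.c7 <| H129.ChainF.c7 <| H129.ChainF.c7 <| H129.ChainF.nil) (by decide +kernel)

/-- coefficients of the eigenvector -/
def V14 : Fin 6 → Fin 7 → ℤ := ![![0, 0, 0, 0, 0, -1, 0], ![0, 0, 0, -1, -1, 0, -1], ![0, -1, -1, -1, 0, 0, 1], ![-1, 0, -1, -1, -2, -1, -1],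
    ![0, -1, 0, 0, 1, 0, 0], ![0, 1, 0, 0, 0, 0, 0]]

/-- the functional -/
def U14 : Fin 7 → ℤ := ![1, 0, 0, 0, 0, -1, 0]

theorem eig14 : EigOK (hd chain14) c14 V14 U14 :=
  H493.EigF.ok (H493.EigF.hT H493.EigF.t7) H493.EigF.r6 (H493.EigF.mc H493.EigF.r7 <| H493.EigF.mc H493.EigF.r7 <| H493.EigF.mc H493.EigF.r7 <| H493.EigF.mc H493.EigF.r7 <| H493.EigF.mc H493.EigF.r7 <| H493.EigF.mc H493.EigF.r7 <| H493.EigF.m0) H493.EigF.r7 (by decide +kernel)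

/-- partial products of an element with characteristic polynomial divisible by the cyclotomic polynomial 18 -/
def chain18 : List (Fin 7 × Mat 7) := [
    (4, ![![0, 0, 1, 1, 1, 0, 0], ![0, -1, 0, -1, -1, 0, 0], ![-1, 0, -1, -1, -1, 0, 0], ![1, 1, 1, 1, 1, 0, 0],
      ![0, 0, 0, 1, 1, 1, 1], ![0, 0, 0, 0, -1, -1, -1], ![0, 0, 0, 0, 1, 1, 0]]),
    (3, ![![0, 0, 1, 1, 0, 0, 0], ![0, -1, 0, -1, 0, 0, 0], ![-1, 0, -1, -1, 0, 0, 0], ![1, 1, 1, 1, 0, 0, 0],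
      ![0, 0, 0, 1, 1, 1, 1], ![0, 0, 0, 0, 0, -1, -1], ![0, 0, 0, 0, 0, 1, 0]]),
    (0, ![![0, 0, 1, 0, 0, 0, 0], ![0, -1, 0, 0, 0, 0, 0], ![-1, 0, -1, 0, 0, 0, 0], ![1, 1, 1, 1, 0, 0, 0],
      ![0, 0, 0, 0, 1, 1, 1], ![0, 0, 0, 0, 0, -1, -1], ![0, 0, 0, 0, 0, 1, 0]]),
    (6, ![![1, 0, 1, 0, 0, 0, 0], ![0, -1, 0, 0, 0, 0, 0], ![0, 0, -1, 0, 0, 0, 0], ![0, 1, 1, 1, 0, 0, 0],
      ![0, 0, 0, 0, 1, 1, 1], ![0, 0, 0, 0, 0, -1, -1], ![0, 0, 0, 0, 0, 1, 0]]),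
    (1, ![![1, 0, 1, 0, 0, 0, 0], ![0, -1, 0, 0, 0, 0, 0], ![0, 0, -1, 0, 0, 0, 0], ![0, 1, 1, 1, 0, 0, 0],
      ![0, 0, 0, 0, 1, 1, 0], ![0, 0, 0, 0, 0, -1, 0], ![0, 0, 0, 0, 0, 1, 1]]),
    (2, ![![1, 0, 1, 0, 0, 0, 0], ![0, 1, 0, 0, 0, 0, 0], ![0, 0, -1, 0, 0, 0, 0], ![0, 0, 1, 1, 0, 0, 0],
      ![0, 0, 0, 0, 1, 1, 0], ![0, 0, 0, 0, 0, -1, 0], ![0, 0, 0, 0, 0, 1, 1]]),
    (5, ![![1, 0, 0, 0, 0, 0, 0], ![0, 1, 0, 0, 0, 0, 0], ![0, 0, 1, 0, 0, 0, 0], ![0, 0, 0, 1, 0, 0, 0],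
      ![0, 0, 0, 0, 1, 1, 0], ![0, 0, 0, 0, 0, -1, 0], ![0, 0, 0, 0, 0, 1, 1]])]

theorem chain18_ok : ChainOK Am chain18 :=
  H129.ChainF.ok H129.ChainF.i7 H129.ChainF.m7 (H129.ChainF.c7 <| H129.ChainF.c7 <| H129.ChainF.c7 <| H129.ChainF.c7 <| H129.ChainF.c7 <| H129.ChainF.c7 <| H129.ChainF.c7 <| H129.ChainF.nil) (by decide +kernel)

/-- coefficients of the eigenvector -/
def V18 : Fin 6 → Fin 7 → ℤ := ![![1, 0, 1, 0, 0, 0, 0], ![0, 1, 0, 1, 0, 0, 0], ![0, 0, 1, 1, 1, 1, 0], ![0, 1, 0, 1, 1, 1, 1],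
    ![0, 0, 1, 1, 1, 0, 0], ![1, 0, 0, 0, 0, 0, 0]]

/-- the functional -/
def U18 : Fin 7 → ℤ := ![0, 1, 1, -1, 0, 0, 0]

theorem eig18 : EigOK (hd chain18) c18 V18 U18 :=
  H493.EigF.ok (H493.EigF.hT H493.EigF.t7) H493.EigF.r6 (H493.EigF.mc H493.EigF.r7 <| H493.EigF.mc H493.EigF.r7 <| H493.EigF.mc H493.EigF.r7 <| H493.EigF.mc H493.EigF.r7 <| H493.EigF.mc H493.EigF.r7 <| H493.EigF.mc H493.EigF.r7 <| H493.EigF.m0) H493.EigF.r7 (by decide +kernel)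

end Cfsg.Agent.H493.PGE7
end
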