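import Cfsg.Agent.H493.PGCount_m3
import Cfsg.Agent.H94.Sp.AC
import Cfsg.Agent.H94.Sp.Base_m3
import Cfsg.Agent.S2475
import Cfsg.Agent.Prune
set_option linter.all false
prune_inst 0x7f00000000000000000000000000000000000000000000000000000000000000000000000000000000000000000000000000000000000000000000000000000000000000000000000000000000000000003fffffffffffffffffffffffffffbeffbdffffffff
open scoped Cfsg.Agent.FastGrp

/-!
# Rows for the number of components of the prime graph: tools, sporadic, alternating, `PSL_2`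
-/

set_option autoImplicit false

namespace Cfsg.Agent.H493.PGRows

open Cfsg.Agent.H493.PG
open Cfsg.Agent

theorem conn_of {G : Type*} [Group G] [Finite G] {a b : ℕ} (h : H94.PG.Conn G a b) : Conn G a b := by
  induction h with
  | refl => exact Conn.refl _
  | tail _ h ih =>
    obtain ⟨hb, hc, hne, x, y, hx, hy, hxy⟩ := h
    exact ih.trans (Conn.of_commute hb hc (x := x) (y := y) hxy.eq (dvd_of_eq hx.symm) (dvd_of_eq hy.symm))

/-- a list of exceptions -/
theorem few_of_list {G : Type*} [Group G] (R : List ℕ) {n : ℕ} (hn : R.length + 1 < n)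
    (h : ∀ r, r.Prime → r ∣ Nat.card G → r ∉ R → Conn G r 2) : Few n G := by
  classical
  refine few_of_cover (k := R.length + 1) hn
    (fun i r => if hi : (i : ℕ) < R.length then r = R[(i : ℕ)] else Conn G r 2) ?_ ?_
  · intro r hr hd
    by_cases hR : r ∈ R
    · obtain ⟨i, hi, rfl⟩ := List.mem_iff_getElem.1 hR
      exact ⟨⟨i, by omega⟩, by simp [hi]⟩
    · exact ⟨⟨R.length, by omega⟩, by simp [h r hr hd hR]⟩
  · intro i r s _ _ _ _ h1 h2
    by_cases hi : (i : ℕ) < R.length
    · simp only [hi, dif_pos] at h1 h2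
      rw [h1, h2]
      exact Conn.refl _
    · simp only [hi, dif_neg, not_false_eq_true] at h1 h2
      exact h1.trans h2.symm

/-- at most two components -/
theorem few_of_two {G : Type*} [Group G] {n : ℕ} (hn : 3 ≤ n)
    (h : ∀ r s, r.Prime → s.Prime → r ≠ 2 → s ≠ 2 → r ∣ Nat.card G → s ∣ Nat.card G →
      Conn G 2 r ∨ Conn G 2 s ∨ Conn G r s) : Few n G := by
  refine few_of_cover (k := 2) (by omega) ![fun r => Conn G r 2, fun r => ¬ Conn G r 2] ?_ ?_
  · intro r _ _
    by_cases h1 : Conn G r 2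
    · exact ⟨0, h1⟩
    · exact ⟨1, h1⟩
  · intro i r s hr hs hrd hsd h1 h2
    fin_cases i
    · exact Conn.trans h1 (Conn.symm h2)
    · have h1' : ¬ Conn G r 2 := h1
      have h2' : ¬ Conn G s 2 := h2
      rcases h r s hr hs (fun e => h1' (e ▸ Conn.refl _)) (fun e => h2' (e ▸ Conn.refl _)) hrd hsd with h3 | h3 | h3
      · exact absurd h3.symm h1'
      · exact absurd h3.symm h2'
      · exact h3

/-! ### sporadic groups -/

theorem few_nr {G : Type*} [Group G] [Finite G] {N : ℕ} (R : List ℕ) (hN : Nat.card G = N)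
    (h : ∀ r, r.Prime → r ∣ N → r ∉ R → H94.PG.Sp.Nr G r) {n : ℕ} (hn : R.length + 1 < n) : Few n G :=
  few_of_list R hn fun r hr hd hR => conn_of (h r hr (hN ▸ hd) hR).conn

open H94.PG.Sp in
theorem few_sporadic {K : Type*} [Group K] [Finite K] (h : Cfsg.IsSporadicGroup K) {n : ℕ} (hn : 7 ≤ n) : Few n K := by
  rcases h with h | h | h | h | h | h | h | h | h | h | h | h | h | h | h | h | h | h | h | h | h | h | h | h | h | h
  · exact few_nr [5, 11] (NotCT.Orders.m11 h) (fun r hr hd hR => nr_m11' h hr hd hR) (by simp; omega)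
  · exact few_nr [11] (NotCT.Orders.m12 h) (fun r hr hd hR => nr_m12' h hr hd hR) (by simp; omega)
  · exact few_nr [5, 7, 11] (NotCT.Orders.m22 h) (fun r hr hd hR => nr_m22' h hr hd hR) (by simp; omega)
  · exact few_nr [5, 11, 23] (NotCT.Orders.m23 h) (fun r hr hd hR => nr_m23' h hr hd hR) (by simp; omega)
  · exact few_nr [11, 23] (NotCT.Orders.m24 h) (fun r hr hd hR => nr_m24' h hr hd hR) (by simp; omega)
  · exact few_nr [7, 11, 19] (NotCT.Orders.j1 h) (fun r hr hd hR => nr_j1 h hr hd hR) (by simp; omega)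
  · exact few_nr [7] (NotCT.Orders.j2 h) (fun r hr hd hR => nr_j2 h hr hd hR) (by simp; omega)
  · exact few_nr [17, 19] (NotCT.Orders.j3 h) (fun r hr hd hR => nr_j3 h hr hd hR) (by simp; omega)
  · exact few_nr [23, 29, 31, 37, 43] (NotCT.Orders.j4 h) (fun r hr hd hR => nr_j4 h hr hd hR) (by simp; omega)
  · exact few_nr [23] (NotCT.Orders.co1 h) (fun r hr hd hR => nr_co1 h hr hd hR) (by simp; omega)
  · exact few_nr [11, 23] (NotCT.Orders.co2 h) (fun r hr hd hR => nr_co2 h hr hd hR) (by simp; omega)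
  · exact few_nr [23] (NotCT.Orders.co3 h) (fun r hr hd hR => nr_co3 h hr hd hR) (by simp; omega)
  · exact few_nr [11] (NotCT.Orders.mcl h) (fun r hr hd hR => nr_mcl h hr hd hR) (by simp; omega)
  · exact few_nr [7, 11] (NotCT.Orders.hs h) (fun r hr hd hR => nr_hs h hr hd hR) (by simp; omega)
  · exact few_nr [11, 13] (NotCT.Orders.suz h) (fun r hr hd hR => nr_suz h hr hd hR) (by simp; omega)
  · exact few_nr [17] (NotCT.Orders.he h) (fun r hr hd hR => nr_he h hr hd hR) (by simp; omega)
  · exact few_nr [29] (NotCT.Orders.ru h) (fun r hr hd hR => nr_ru h hr hd hR) (by simp; omega)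
  · exact few_nr [11, 19, 31] (NotCT.Orders.on h) (fun r hr hd hR => nr_on h hr hd hR) (by simp; omega)
  · exact few_nr [31, 37, 67] (NotCT.Orders.ly h) (fun r hr hd hR => nr_ly h hr hd hR) (by simp; omega)
  · exact few_nr [13] (NotCT.Orders.fi22 h) (fun r hr hd hR => nr_fi22 h hr hd hR) (by simp; omega)
  · exact few_nr [17, 23] (NotCT.Orders.fi23 h) (fun r hr hd hR => nr_fi23 h hr hd hR) (by simp; omega)
  · exact few_nr [17, 23, 29] (NotCT.Orders.fi24 h) (fun r hr hd hR => nr_fi24 h hr hd hR) (by simp; omega)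
  · exact few_nr [19] (NotCT.Orders.hn h) (fun r hr hd hR => nr_hn h hr hd hR) (by simp; omega)
  · exact few_nr [13, 19, 31] (NotCT.Orders.th h) (fun r hr hd hR => nr_th h hr hd hR) (by simp; omega)
  · exact few_nr [31, 47] (NotCT.Orders.b h) (fun r hr hd hR => nr_b h hr hd hR) (by simp; omega)
  · exact few_nr [29, 41, 59, 71] (NotCT.Orders.m h) (fun r hr hd hR => nr_m h hr hd hR) (by simp; omega)

open H94.PG.Sp in
theorem few_tits {K : Type*} [Group K] [Finite K] (h : Cfsg.Lie.IsoTits K) : Few 3 K :=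
  few_nr [13] (NotCT.Orders.tits h) (fun _ hr hd hR => nr_tits h hr hd hR) (by simp)

/-! ### alternating groups -/

theorem conn_alt {n r : ℕ} (hr : r.Prime) (hr2 : r ≠ 2) (hn : r + 4 ≤ n) : Conn (alternatingGroup (Fin n)) r 2 := by
  have hodd : Odd r := hr.odd_of_ne_two hr2
  obtain ⟨g, hg⟩ := (Equiv.Perm.exists_with_cycleType_iff (Fin n) (m := {r, 2, 2})).2 ⟨by simp; omega, by
    intro a ha
    simp only [Multiset.insert_eq_cons, Multiset.mem_cons, Multiset.mem_singleton] at ha
    rcases ha with rfl | rfl | rfl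
    · exact hr.two_le
    · rfl
    · rfl⟩
  have hs : g ∈ alternatingGroup (Fin n) := by
    rw [Equiv.Perm.mem_alternatingGroup, Equiv.Perm.sign_of_cycleType, hg]
    obtain ⟨k, rfl⟩ := hodd
    simp only [Multiset.insert_eq_cons, Multiset.sum_cons, Multiset.sum_singleton, Multiset.card_cons,
      Multiset.card_singleton]
    exact Even.neg_one_pow ⟨k + 4, by ring⟩
  have ho : orderOf g = Nat.lcm r 2 := by
    rw [← Equiv.Perm.lcm_cycleType, hg]
    simp only [Multiset.insert_eq_cons, Multiset.lcm_cons, Multiset.lcm_singleton]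
    simp
    rfl
  have ho' : orderOf (⟨g, hs⟩ : alternatingGroup (Fin n)) = Nat.lcm r 2 := by rw [Subgroup.orderOf_mk, ho]
  exact conn_of_dvd_orderOf (g := ⟨g, hs⟩) hr Nat.prime_two (ho' ▸ Nat.dvd_lcm_left _ _) (ho' ▸ Nat.dvd_lcm_right _ _)

theorem few_alternating {K : Type*} [Group K] (h : Cfsg.IsAlternating K) : Few 6 K := by
  obtain ⟨n, hn, ⟨e⟩⟩ := h
  refine Few.congr e.symm ?_
  refine few_of_list [n, n - 1, n - 2, n - 3] (by simp) ?_
  intro r hr hd hR
  by_cases hr2 : r = 2
  · rw [hr2]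
    exact Conn.refl _
  · refine conn_alt hr hr2 ?_
    have h1 : r ∣ n.factorial := by
      have h2 : Nat.card (alternatingGroup (Fin n)) ∣ Nat.card (Equiv.Perm (Fin n)) :=
        Subgroup.card_subgroup_dvd_card _
      rw [Nat.card_eq_fintype_card (α := Equiv.Perm (Fin n)), Fintype.card_perm, Fintype.card_fin] at h2
      exact hd.trans h2
    have h3 : r ≤ n := (Nat.Prime.dvd_factorial hr).1 h1
    simp only [List.mem_cons, List.not_mem_nil, or_false, not_or] at hR
    omega

/-! ### `PSL_2` -/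

theorem few_psl_two {F : Type*} [Field F] [Fintype F] (h4 : 4 ≤ Fintype.card F) :
    Few 4 (Matrix.ProjectiveSpecialLinearGroup (Fin 2) F) := by
  obtain ⟨p, hp⟩ := CharP.exists F
  have hpp : p.Prime := CharP.char_is_prime F p
  have := Fact.mk hpp
  have hS := S2475.result (F := F) p h4
  set q := Fintype.card F
  refine few_of_cover (k := 3) (by norm_num) ![fun r => r ∣ p, fun r => r ∣ (q - 1) / Nat.gcd 2 (q - 1),
    fun r => r ∣ (q + 1) / Nat.gcd 2 (q - 1)] ?_ ?_
  · intro r hr hd
    have := Fact.mk hr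
    obtain ⟨x, hx⟩ := exists_prime_orderOf_dvd_card' r hd
    have h1 : r ∈ Set.range (orderOf : Matrix.ProjectiveSpecialLinearGroup (Fin 2) F → ℕ) := ⟨x, hx⟩
    rw [hS] at h1
    rcases h1 with h1 | h1 | h1
    · exact ⟨0, h1⟩
    · exact ⟨1, h1⟩
    · exact ⟨2, h1⟩
  · intro i r s hr hs _ _ h1 h2
    fin_cases i
    · have h1' : r = p := (Nat.prime_dvd_prime_iff_eq hr hpp).1 h1
      have h2' : s = p := (Nat.prime_dvd_prime_iff_eq hs hpp).1 h2
      rw [h1', h2']
      exact Conn.refl _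
    · have h3 : (q - 1) / Nat.gcd 2 (q - 1) ∈
          Set.range (orderOf : Matrix.ProjectiveSpecialLinearGroup (Fin 2) F → ℕ) := by
        rw [hS]; exact Or.inr (Or.inl dvd_rfl)
      obtain ⟨g, hg⟩ := h3
      exact conn_of_dvd_orderOf (g := g) hr hs (hg ▸ h1) (hg ▸ h2)
    · have h3 : (q + 1) / Nat.gcd 2 (q - 1) ∈
          Set.range (orderOf : Matrix.ProjectiveSpecialLinearGroup (Fin 2) F → ℕ) := by
        rw [hS]; exact Or.inr (Or.inr dvd_rfl)
      obtain ⟨g, hg⟩ := h3
      exact conn_of_dvd_orderOf (g := g) hr hs (hg ▸ h1) (hg ▸ h2)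

end Cfsg.Agent.H493.PGRows
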